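import Cfsg.Agent.H539.Lim.Defs

/-!
# S5242, F2: lifting of cochains, short exact sequences of coefficient systems (helper87)
-/

set_option autoImplicit false

namespace Cfsg.Agent.H87.Lim

open MulAction Cfsg.Agent.H539.Lim

universe u v w

section

variable {G : Type u} [Group G] {Ω : Type v} [MulAction G Ω]

theorem tau_eq (C : Coef.{u, w} G) {g g' : G} (e : g = g') {P Q : Subgroup G} (h : ∀ u ∈ P, g * u * g⁻¹ ∈ Q)
    (h' : ∀ u ∈ P, g' * u * g'⁻¹ ∈ Q) (m : C.M Q) : C.τ g P Q h m = C.τ g' P Q h' m := by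
  subst e
  rfl

theorem inv_iff {V : Set (Subgroup G)} (hVi : IsInv V) (g : G) {k : ℕ} (x : Fin k → Ω) :
    st G (g • x) ∈ V ↔ st G x ∈ V := by
  have key : ∀ (g : G) (x : Fin k → Ω), st G x ∈ V → st G (g • x) ∈ V := by
    intro g x h
    have h1 := hVi g _ h
    have e : cj g (st G x) = st G (g • x) := (stabilizer_smul_eq_stabilizer_map_conj g x).symm
    rwa [e] at h1
  refine ⟨fun h => ?_, key g x⟩
  have := key g⁻¹ _ h
  rwa [inv_smul_smul] at this

/-- two elements moving `x` to the same tuple induce the same map -/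
theorem tau_congr (C : Coef.{u, w} G) {k : ℕ} {x : Fin k → Ω} {Q : Subgroup G} {g g' : G} (e : g • x = g' • x)
    (h : ∀ u ∈ st G x, g * u * g⁻¹ ∈ Q) (h' : ∀ u ∈ st G x, g' * u * g'⁻¹ ∈ Q) (m : C.M Q) :
    C.τ g (st G x) Q h m = C.τ g' (st G x) Q h' m := by
  have hu : g⁻¹ * g' ∈ st G x := by
    rw [mem_stabilizer_iff, mul_smul, ← e, inv_smul_smul]
  have hc : ∀ w ∈ st G x, (g⁻¹ * g') * w * (g⁻¹ * g')⁻¹ ∈ st G x := fun w hw =>
    mul_mem (mul_mem hu hw) (inv_mem hu)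
  have h2 : ∀ w ∈ st G x, (g * (g⁻¹ * g')) * w * (g * (g⁻¹ * g'))⁻¹ ∈ Q := by
    rw [mul_inv_cancel_left]
    exact h'
  have h3 := C.τ_comp (g⁻¹ * g') g (st G x) (st G x) Q hc h h2 m
  rw [C.τ_inner _ _ hu] at h3
  rw [h3]
  exact tau_eq C (mul_inv_cancel_left g g') _ _ m

theorem conj_mem_of {k : ℕ} {x y : Fin k → Ω} {g : G} (e : g • x = y) : ∀ u ∈ st G x, g * u * g⁻¹ ∈ st G y := by
  subst e
  exact Coef.conj_st G g x

theorem tau_pt (C : Coef.{u, w} G) {k : ℕ} {P : Subgroup G} {y y' : Fin k → Ω} (e : y = y') (g : G)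
    (h : ∀ u ∈ P, g * u * g⁻¹ ∈ st G y) (h' : ∀ u ∈ P, g * u * g⁻¹ ∈ st G y') (m : ∀ y : Fin k → Ω, C.M (st G y)) :
    C.τ g P (st G y) h (m y) = C.τ g P (st G y') h' (m y') := by
  subst e
  rfl

open Classical in
/-- **lifting of cochains** -/
theorem Coef.exists_lift {C C' : Coef.{u, w} G} {V : Set (Subgroup G)} (hVi : IsInv V)
    (g : Coef.HomOn C C' V) (hs : ∀ P ∈ V, Function.Surjective (g.f P)) {k : ℕ}
    (c' : ∀ x : Fin k → Ω, C'.M (st G x)) (hc' : C'.IsCoch V c') :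
    ∃ c : ∀ x : Fin k → Ω, C.M (st G x), C.IsCoch V c ∧ ∀ x, st G x ∈ V → g.f _ (c x) = c' x := by
  -- representatives
  let r : (Fin k → Ω) → (Fin k → Ω) := fun x => (Quotient.mk (orbitRel G (Fin k → Ω)) x).out
  have hr : ∀ x, ∃ t : G, t • x = r x := fun x => by
    have h : (orbitRel G (Fin k → Ω)).r (r x) x := Quotient.exact (Quotient.out_eq _)
    exact h
  choose t ht using hr
  have hrr : ∀ (a : G) x, r (a • x) = r x := fun a x => by
    have : Quotient.mk (orbitRel G (Fin k → Ω)) (a • x) = Quotient.mk (orbitRel G (Fin k → Ω)) x :=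
      Quotient.sound ⟨a, rfl⟩
    change (Quotient.mk (orbitRel G (Fin k → Ω)) (a • x)).out = (Quotient.mk (orbitRel G (Fin k → Ω)) x).out
    rw [this]
  have hrV : ∀ x, st G (r x) ∈ V ↔ st G x ∈ V := fun x => by
    rw [← ht x]
    exact inv_iff hVi (t x) x
  -- lifts
  let m : ∀ y : Fin k → Ω, C.M (st G y) := fun y => if h : st G y ∈ V then (hs _ h (c' y)).choose else 0
  have hm : ∀ y, st G y ∈ V → g.f _ (m y) = c' y := fun y h => by
    change g.f _ (if h : st G y ∈ V then (hs _ h (c' y)).choose else 0) = _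
    rw [dif_pos h]
    exact (hs _ h (c' y)).choose_spec
  have hm0 : ∀ y, st G y ∉ V → m y = 0 := fun y h => dif_neg h
  refine ⟨fun x => C.τ (t x) (st G x) (st G (r x)) (conj_mem_of (ht x)) (m (r x)), ⟨fun a x => ?_, fun x hx => ?_⟩,
    fun x hx => ?_⟩
  · have e1 : a • x = a • x := rfl
    have h1 : ∀ u ∈ st G (a • x), t (a • x) * u * (t (a • x))⁻¹ ∈ st G (r x) := conj_mem_of ((ht (a • x)).trans (hrr a x))
    have h2 : C.τ (t (a • x)) (st G (a • x)) (st G (r (a • x))) (conj_mem_of (ht (a • x))) (m (r (a • x))) =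
        C.τ (t (a • x)) (st G (a • x)) (st G (r x)) h1 (m (r x)) := tau_pt C (hrr a x) _ _ _ m
    have h3 : (t (a • x) * a) • x = r x := by rw [mul_smul, ht, hrr]
    change C.τ a (st G x) (st G (a • x)) (Coef.conj_st G a x)
      (C.τ (t (a • x)) (st G (a • x)) (st G (r (a • x))) (conj_mem_of (ht (a • x))) (m (r (a • x)))) = _
    rw [h2, C.τ_comp a (t (a • x)) _ _ _ _ _ (conj_mem_of h3)]
    exact tau_congr C (h3.trans (ht x).symm) _ _ _
  · rw [hm0 _ (fun h => hx ((hrV x).1 h)), map_zero]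
  · have hrx := (hrV x).2 hx
    change g.f _ (C.τ (t x) (st G x) (st G (r x)) (conj_mem_of (ht x)) (m (r x))) = _
    rw [g.nat (t x) _ _ _ hx hrx, hm _ hrx, ← hc'.equiv (t x) x]
    exact tau_pt C' (ht x).symm _ _ _ c'

/-! ### operations on cochains -/

/-- image of a cochain -/
def mp {C C' : Coef.{u, w} G} {V : Set (Subgroup G)} (f : Coef.HomOn C C' V) {k : ℕ}
    (b : ∀ x : Fin k → Ω, C.M (st G x)) : ∀ x : Fin k → Ω, C'.M (st G x) := fun x => f.f _ (b x)

theorem mp_coch {C C' : Coef.{u, w} G} {V : Set (Subgroup G)} (hVi : IsInv V) (f : Coef.HomOn C C' V) {k : ℕ}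
    {b : ∀ x : Fin k → Ω, C.M (st G x)} (hb : C.IsCoch V b) : C'.IsCoch V (mp f b) where
  equiv g x := by
    by_cases hx : st G x ∈ V
    · change C'.τ g _ _ _ (f.f _ (b (g • x))) = f.f _ (b x)
      rw [← f.nat g _ _ _ hx ((inv_iff hVi g x).2 hx), hb.equiv]
    · change C'.τ g _ _ _ (f.f _ (b (g • x))) = f.f _ (b x)
      rw [hb.supp x hx, hb.supp _ (fun h => hx ((inv_iff hVi g x).1 h)), map_zero, map_zero, map_zero]
  supp x hx := by
    change f.f _ (b x) = 0
    rw [hb.supp x hx, map_zero]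

theorem mp_dd {C C' : Coef.{u, w} G} {V : Set (Subgroup G)} (f : Coef.HomOn C C' V) {k : ℕ}
    {b : ∀ x : Fin k → Ω, C.M (st G x)} (hb : C.IsCoch V b) {x : Fin (k + 1) → Ω} (hx : st G x ∈ V) :
    C'.dd (mp f b) x = f.f _ (C.dd b x) := by
  unfold Coef.dd
  rw [map_sum]
  refine Finset.sum_congr rfl fun i _ => ?_
  rw [map_zsmul]
  congr 1
  by_cases hy : st G (fun j => x (i.succAbove j)) ∈ V
  · exact (f.nat 1 _ _ _ hx hy _).symm
  · change C'.res _ (f.f _ (b _)) = _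
    rw [hb.supp _ hy, map_zero, map_zero, map_zero, map_zero]

theorem add_coch {C : Coef.{u, w} G} {V : Set (Subgroup G)} {k : ℕ} {b c : ∀ x : Fin k → Ω, C.M (st G x)}
    (hb : C.IsCoch V b) (hc : C.IsCoch V c) : C.IsCoch V (fun x => b x + c x) where
  equiv g x := by rw [map_add, hb.equiv, hc.equiv]
  supp x hx := by rw [hb.supp x hx, hc.supp x hx, add_zero]

theorem sub_coch {C : Coef.{u, w} G} {V : Set (Subgroup G)} {k : ℕ} {b c : ∀ x : Fin k → Ω, C.M (st G x)}
    (hb : C.IsCoch V b) (hc : C.IsCoch V c) : C.IsCoch V (fun x => b x - c x) where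
  equiv g x := by rw [map_sub, hb.equiv, hc.equiv]
  supp x hx := by rw [hb.supp x hx, hc.supp x hx, sub_zero]

theorem dd_add (C : Coef.{u, w} G) {k : ℕ} (b c : ∀ x : Fin k → Ω, C.M (st G x)) (x : Fin (k + 1) → Ω) :
    C.dd (fun y => b y + c y) x = C.dd b x + C.dd c x := by
  unfold Coef.dd
  rw [← Finset.sum_add_distrib]
  refine Finset.sum_congr rfl fun i _ => ?_
  rw [map_add, smul_add]

theorem dd_sub (C : Coef.{u, w} G) {k : ℕ} (b c : ∀ x : Fin k → Ω, C.M (st G x)) (x : Fin (k + 1) → Ω) :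
    C.dd (fun y => b y - c y) x = C.dd b x - C.dd c x := by
  unfold Coef.dd
  rw [← Finset.sum_sub_distrib]
  refine Finset.sum_congr rfl fun i _ => ?_
  rw [map_sub, smul_sub]

/-- the coboundary is equivariant -/
theorem dd_equiv (C : Coef.{u, w} G) {k : ℕ} {c : ∀ x : Fin k → Ω, C.M (st G x)}
    (hc : ∀ (g : G) (x : Fin k → Ω), C.τ g (st G x) (st G (g • x)) (Coef.conj_st G g x) (c (g • x)) = c x)
    (g : G) (x : Fin (k + 1) → Ω) :
    C.τ g (st G x) (st G (g • x)) (Coef.conj_st G g x) (C.dd c (g • x)) = C.dd c x := by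
  unfold Coef.dd
  rw [map_sum]
  refine Finset.sum_congr rfl fun i _ => ?_
  rw [map_zsmul]
  congr 1
  rw [← hc g (fun j => x (i.succAbove j))]
  have h0 : ∀ u ∈ st G x, g * u * g⁻¹ ∈ st G (g • fun j => x (i.succAbove j)) := fun u hu =>
    Coef.conj_st G g _ u (Coef.st_succAbove_le G x i hu)
  have h1 : ∀ u ∈ st G x, (1 * g) * u * (1 * g)⁻¹ ∈ st G (g • fun j => x (i.succAbove j)) := by
    rw [one_mul]
    exact h0
  have h2 : ∀ u ∈ st G x, (g * 1) * u * (g * 1)⁻¹ ∈ st G (g • fun j => x (i.succAbove j)) := by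
    rw [mul_one]
    exact h0
  have e1 := C.τ_comp g 1 (st G x) (st G (g • x)) (st G (g • fun j => x (i.succAbove j))) (Coef.conj_st G g x)
    (fun u hu => by
      rw [one_mul, inv_one, mul_one]
      exact Coef.st_succAbove_le G (g • x) i hu) h1 (c (g • fun j => x (i.succAbove j)))
  have e2 := C.τ_comp 1 g (st G x) (st G (fun j => x (i.succAbove j))) (st G (g • fun j => x (i.succAbove j)))
    (fun u hu => by
      rw [one_mul, inv_one, mul_one]
      exact Coef.st_succAbove_le G x i hu) (Coef.conj_st G g _) h2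
    (c (g • fun j => x (i.succAbove j)))
  have e3 := tau_eq C ((one_mul g).trans (mul_one g).symm) h1 h2 (c (g • fun j => x (i.succAbove j)))
  exact e1.trans (e3.trans e2.symm)

open Classical in
/-- truncation to `V` -/
noncomputable def tr (C : Coef.{u, w} G) (V : Set (Subgroup G)) {k : ℕ} (c : ∀ x : Fin k → Ω, C.M (st G x)) :
    ∀ x : Fin k → Ω, C.M (st G x) := fun x => if st G x ∈ V then c x else 0

theorem tr_pos (C : Coef.{u, w} G) {V : Set (Subgroup G)} {k : ℕ} (c : ∀ x : Fin k → Ω, C.M (st G x)) {x : Fin k → Ω}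
    (hx : st G x ∈ V) : tr C V c x = c x := if_pos hx

theorem tr_neg (C : Coef.{u, w} G) {V : Set (Subgroup G)} {k : ℕ} (c : ∀ x : Fin k → Ω, C.M (st G x)) {x : Fin k → Ω}
    (hx : st G x ∉ V) : tr C V c x = 0 := if_neg hx

theorem tr_coch {C : Coef.{u, w} G} {V : Set (Subgroup G)} (hVi : IsInv V) {k : ℕ} {c : ∀ x : Fin k → Ω, C.M (st G x)}
    (hc : ∀ (g : G) (x : Fin k → Ω), C.τ g (st G x) (st G (g • x)) (Coef.conj_st G g x) (c (g • x)) = c x) :
    C.IsCoch V (tr C V c) where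
  equiv g x := by
    by_cases hx : st G x ∈ V
    · rw [tr_pos C c hx, tr_pos C c ((inv_iff hVi g x).2 hx), hc]
    · rw [tr_neg C c hx, tr_neg C c (fun h => hx ((inv_iff hVi g x).1 h)), map_zero]
  supp x hx := tr_neg C c hx

/-- the key remark -/
theorem dd_eq_zero {C : Coef.{u, w} G} {V : Set (Subgroup G)} (hV : V.OrdConnected) {k : ℕ}
    {b : ∀ x : Fin k → Ω, C.M (st G x)} (hb : ∀ x, st G x ∉ V → b x = 0) {x : Fin (k + 1 + 1) → Ω} (hx : st G x ∈ V)
    (i : Fin (k + 1 + 1)) (hy : st G (fun j => x (i.succAbove j)) ∉ V) : C.dd b (fun j => x (i.succAbove j)) = 0 := by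
  unfold Coef.dd
  refine Finset.sum_eq_zero fun l _ => ?_
  rw [hb, map_zero, smul_zero]
  intro hz
  exact hy (hV.out hx hz ⟨Coef.st_succAbove_le G x i, Coef.st_succAbove_le G _ l⟩)

theorem dd_congr (C : Coef.{u, w} G) {k : ℕ} {b b' : ∀ x : Fin k → Ω, C.M (st G x)} {x : Fin (k + 1) → Ω}
    (h : ∀ i : Fin (k + 1), b (fun j => x (i.succAbove j)) = b' (fun j => x (i.succAbove j))) : C.dd b x = C.dd b' x := by
  unfold Coef.dd
  exact Finset.sum_congr rfl fun i _ => by rw [h i]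

theorem dd_tr {C : Coef.{u, w} G} {V : Set (Subgroup G)} (hV : V.OrdConnected) {k : ℕ}
    {b : ∀ x : Fin k → Ω, C.M (st G x)} (hb : ∀ x, st G x ∉ V → b x = 0)
    (hdd : ∀ x : Fin (k + 1 + 1) → Ω, C.dd (fun y => C.dd b y) x = 0) {x : Fin (k + 1 + 1) → Ω} (hx : st G x ∈ V) :
    C.dd (tr C V (C.dd b)) x = 0 := by
  rw [← hdd x]
  refine dd_congr C fun i => ?_
  by_cases hy : st G (fun j => x (i.succAbove j)) ∈ V
  · exact tr_pos C (C.dd b) hy
  · rw [tr_neg C (C.dd b) hy]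
    exact (dd_eq_zero hV hb hx i hy).symm

open Classical in
/-- preimages of cochains under an injective map -/
theorem exists_pre {C' C : Coef.{u, w} G} {V : Set (Subgroup G)} (hVi : IsInv V) (f : Coef.HomOn C' C V)
    (hinj : ∀ P ∈ V, Function.Injective (f.f P)) {k : ℕ} {c : ∀ x : Fin k → Ω, C.M (st G x)} (hc : C.IsCoch V c)
    (h : ∀ x, st G x ∈ V → ∃ m', f.f _ m' = c x) :
    ∃ e : ∀ x : Fin k → Ω, C'.M (st G x), C'.IsCoch V e ∧ ∀ x, f.f _ (e x) = c x := by
  let e : ∀ x : Fin k → Ω, C'.M (st G x) := fun x => if hx : st G x ∈ V then (h x hx).choose else 0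
  have he0 : ∀ x, st G x ∉ V → e x = 0 := fun x hx => dif_neg hx
  have he : ∀ x, f.f _ (e x) = c x := by
    intro x
    by_cases hx : st G x ∈ V
    · change f.f _ (if hx : st G x ∈ V then (h x hx).choose else 0) = _
      rw [dif_pos hx]
      exact (h x hx).choose_spec
    · rw [he0 x hx, map_zero, hc.supp x hx]
  refine ⟨e, ⟨fun g x => ?_, he0⟩, he⟩
  by_cases hx : st G x ∈ V
  · apply hinj _ hx
    rw [f.nat g _ _ _ hx ((inv_iff hVi g x).2 hx), he, he, hc.equiv]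
  · rw [he0 x hx, he0 _ (fun h => hx ((inv_iff hVi g x).1 h)), map_zero]

/-- restriction to the stabilizer of a face -/
def rs (C : Coef.{u, w} G) {k l : ℕ} (c : ∀ x : Fin k → Ω, C.M (st G x)) (x : Fin l → Ω) (y : Fin k → Ω) (h : st G x ≤ st G y) :
    C.M (st G x) := C.res h (c y)

theorem rs_congr (C : Coef.{u, w} G) {k l : ℕ} (c : ∀ x : Fin k → Ω, C.M (st G x)) (x : Fin l → Ω) {y y' : Fin k → Ω} (e : y = y')
    (h : st G x ≤ st G y) (h' : st G x ≤ st G y') : rs C c x y h = rs C c x y' h' := by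
  subst e
  rfl

theorem res_res (C : Coef.{u, w} G) {P Q R : Subgroup G} (h : P ≤ Q) (h' : Q ≤ R) (m : C.M R) :
    C.res h (C.res h' m) = C.res (h.trans h') m := by
  have h3 : ∀ u ∈ P, (1 * 1 : G) * u * (1 * 1 : G)⁻¹ ∈ R := fun u hu => by simpa using h' (h hu)
  have e1 := C.τ_comp 1 1 P Q R (fun u hu => by simpa using h hu) (fun u hu => by simpa using h' hu) h3 m
  exact e1.trans (tau_eq C (one_mul 1) _ _ m)

/-- **`d d = 0`** -/
theorem Coef.dd_dd (C : Coef.{u, w} G) {k : ℕ} (c : ∀ x : Fin k → Ω, C.M (st G x)) (x : Fin (k + 2) → Ω) :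
    C.dd (fun y => C.dd c y) x = 0 := by
  have hle : ∀ (i : Fin (k + 2)) (j : Fin (k + 1)), st G x ≤ st G (fun l => x (i.succAbove (j.succAbove l))) :=
    fun i j => (Coef.st_succAbove_le G x i).trans (Coef.st_succAbove_le G (fun l => x (i.succAbove l)) j)
  have e1 : C.dd (fun y => C.dd c y) x = ∑ i : Fin (k + 2), ∑ j : Fin (k + 1), ((-1 : ℤ) ^ (i + j : ℕ)) •
      rs C c x (fun l => x (i.succAbove (j.succAbove l))) (hle i j) := by
    unfold Coef.dd
    refine Finset.sum_congr rfl fun i _ => ?_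
    rw [map_sum, Finset.smul_sum]
    refine Finset.sum_congr rfl fun j _ => ?_
    rw [map_zsmul, smul_smul, ← pow_add, res_res]
    rfl
  rw [e1, ← Finset.sum_product']
  refine Finset.sum_involution (fun a _ => (a.1.succAbove a.2, a.2.predAbove a.1)) ?_ ?_ ?_ ?_
  · rintro ⟨i, j⟩ -
    have e2 : (fun l => x ((i.succAbove j).succAbove ((j.predAbove i).succAbove l))) =
        fun l => x (i.succAbove (j.succAbove l)) := by
      funext l
      rw [Fin.succAbove_succAbove_succAbove_predAbove]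
    change ((-1 : ℤ) ^ (i + j : ℕ)) • rs C c x _ (hle i j) +
      ((-1 : ℤ) ^ ((i.succAbove j : Fin (k + 2)) + (j.predAbove i : Fin (k + 1)) : ℕ)) • rs C c x _ (hle _ _) = 0
    rw [rs_congr C c x e2 (hle _ _) (hle i j), Fin.neg_one_pow_succAbove_add_predAbove, neg_smul, add_neg_cancel]
  · rintro ⟨i, j⟩ - -
    intro h
    exact Fin.succAbove_ne i j (congrArg Prod.fst h)
  · intro a _
    exact Finset.mem_product.2 ⟨Finset.mem_univ _, Finset.mem_univ _⟩
  · rintro ⟨i, j⟩ -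
    change ((i.succAbove j).succAbove (j.predAbove i), (j.predAbove i).predAbove (i.succAbove j)) = (i, j)
    rw [Fin.succAbove_succAbove_predAbove, Fin.predAbove_predAbove_succAbove]

theorem pre_coc {C' C : Coef.{u, w} G} {V : Set (Subgroup G)} (f : Coef.HomOn C' C V)
    (hinj : ∀ P ∈ V, Function.Injective (f.f P)) {k : ℕ} {c : ∀ x : Fin k → Ω, C.M (st G x)}
    {e : ∀ x : Fin k → Ω, C'.M (st G x)} (he : C'.IsCoch V e) (h : ∀ x, f.f _ (e x) = c x) (hc : C.IsCoc V c) :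
    C'.IsCoc V e := by
  intro x hx
  apply hinj _ hx
  rw [map_zero, ← mp_dd f he hx]
  have : mp f e = c := funext h
  rw [this]
  exact hc x hx

theorem dd_mp_eq {C C' : Coef.{u, w} G} {V : Set (Subgroup G)} (f : Coef.HomOn C C' V) {k : ℕ}
    {b : ∀ x : Fin k → Ω, C.M (st G x)} (hb : C.IsCoch V b) {x : Fin (k + 1) → Ω} (hx : st G x ∈ V) :
    C'.dd (fun y => f.f _ (b y)) x = f.f _ (C.dd b x) := mp_dd f hb hx

/-- **short exact sequences**, the quotient -/
theorem Coef.van_ses1 {C' C C'' : Coef.{u, w} G} {V : Set (Subgroup G)} (hV : V.OrdConnected) (hVi : IsInv V)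
    (f : Coef.HomOn C' C V) (g : Coef.HomOn C C'' V) (hinj : ∀ P ∈ V, Function.Injective (f.f P))
    (hex : ∀ P ∈ V, ∀ m, g.f P m = 0 ↔ ∃ m', f.f P m' = m) (hs : ∀ P ∈ V, Function.Surjective (g.f P)) {n : ℕ}
    (h1 : C.Van Ω V n) (h2 : C'.Van Ω V (n + 1)) : C''.Van Ω V n := by
  -- a cocycle of `C''` lifts to a cocycle of `C`
  have key : ∀ c'' : (∀ x : Fin (n + 1) → Ω, C''.M (st G x)), C''.IsCoch V c'' → C''.IsCoc V c'' →
      ∃ c : (∀ x : Fin (n + 1) → Ω, C.M (st G x)), C.IsCoch V c ∧ C.IsCoc V c ∧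
        ∀ x, st G x ∈ V → g.f _ (c x) = c'' x := by
    intro c'' hc'' hz
    obtain ⟨c, hc, hcg⟩ := Coef.exists_lift hVi g hs c'' hc''
    have hmp : ∀ x, mp g c x = c'' x := by
      intro x
      by_cases hx : st G x ∈ V
      · exact hcg x hx
      · rw [(mp_coch hVi g hc).supp x hx, hc''.supp x hx]
    have ht := tr_coch hVi (C := C) (c := C.dd c) (dd_equiv C hc.equiv)
    obtain ⟨e, he, hfe⟩ := exists_pre hVi f hinj ht (by
      intro x hx
      rw [tr_pos C (C.dd c) hx, ← hex _ hx, ← mp_dd g hc hx, funext hmp]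
      exact hz x hx)
    have hez : C'.IsCoc V e := pre_coc f hinj he hfe fun x hx => dd_tr hV hc.supp (Coef.dd_dd C c) hx
    obtain ⟨b, hb, hbe⟩ := h2 e he hez
    refine ⟨fun x => c x - mp f b x, sub_coch hc (mp_coch hVi f hb), fun x hx => ?_, fun x hx => ?_⟩
    · rw [dd_sub, mp_dd f hb hx, ← hbe x hx, hfe, tr_pos C (C.dd c) hx, sub_self]
    · have h3 : g.f _ (mp f b x) = 0 := (hex _ hx _).2 ⟨b x, rfl⟩
      rw [map_sub, h3, sub_zero, hcg x hx]
  cases n with
  | zero =>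
    intro c'' hc'' hz x
    obtain ⟨c, hc, hcz, hcg⟩ := key c'' hc'' hz
    by_cases hx : st G x ∈ V
    · rw [← hcg x hx, h1 c hc hcz x, map_zero]
    · exact hc''.supp x hx
  | succ n =>
    intro c'' hc'' hz
    obtain ⟨c, hc, hcz, hcg⟩ := key c'' hc'' hz
    obtain ⟨a, ha, hac⟩ := h1 c hc hcz
    refine ⟨mp g a, mp_coch hVi g ha, fun x hx => ?_⟩
    rw [← hcg x hx, hac x hx, mp_dd g ha hx]

/-- **short exact sequences**, the middle term -/
theorem Coef.van_ses2 {C' C C'' : Coef.{u, w} G} {V : Set (Subgroup G)} (hV : V.OrdConnected) (hVi : IsInv V)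
    (f : Coef.HomOn C' C V) (g : Coef.HomOn C C'' V) (hinj : ∀ P ∈ V, Function.Injective (f.f P))
    (hex : ∀ P ∈ V, ∀ m, g.f P m = 0 ↔ ∃ m', f.f P m' = m) (hs : ∀ P ∈ V, Function.Surjective (g.f P)) {n : ℕ}
    (h1 : C'.Van Ω V n) (h2 : C''.Van Ω V n) : C.Van Ω V n := by
  cases n with
  | zero =>
    intro c hc hz x
    have h3 : ∀ x, mp g c x = 0 := h2 (mp g c) (mp_coch hVi g hc) fun x hx => by
      rw [mp_dd g hc hx, hz x hx, map_zero]
    obtain ⟨e, he, hfe⟩ := exists_pre hVi f hinj hc fun x hx => (hex _ hx _).1 (h3 x)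
    rw [← hfe, h1 e he (pre_coc f hinj he hfe hz) x, map_zero]
  | succ n =>
    intro c hc hz
    obtain ⟨b'', hb'', hbc⟩ := h2 (mp g c) (mp_coch hVi g hc) fun x hx => by
      rw [mp_dd g hc hx, hz x hx, map_zero]
    obtain ⟨b, hb, hbg⟩ := Coef.exists_lift hVi g hs b'' hb''
    have hmp : ∀ x, mp g b x = b'' x := by
      intro x
      by_cases hx : st G x ∈ V
      · exact hbg x hx
      · rw [(mp_coch hVi g hb).supp x hx, hb''.supp x hx]
    have ht := tr_coch hVi (C := C) (c := C.dd b) (dd_equiv C hb.equiv)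
    have hw := sub_coch hc ht
    have hwz : C.IsCoc V (fun x => c x - tr C V (C.dd b) x) := by
      intro x hx
      rw [dd_sub, hz x hx, dd_tr hV hb.supp (Coef.dd_dd C b) hx, sub_zero]
    obtain ⟨e, he, hfe⟩ := exists_pre hVi f hinj hw (by
      intro x hx
      rw [← hex _ hx, map_sub, tr_pos C (C.dd b) hx, ← mp_dd g hb hx, funext hmp, ← hbc x hx]
      exact sub_self _)
    obtain ⟨a, ha, hae⟩ := h1 e he (pre_coc f hinj he hfe hwz)
    refine ⟨fun x => b x + mp f a x, add_coch hb (mp_coch hVi f ha), fun x hx => ?_⟩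
    rw [dd_add, mp_dd f ha hx, ← hae x hx, hfe, tr_pos C (C.dd b) hx]
    abel

end

end Cfsg.Agent.H87.Lim
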